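import Groth.Agent.IsoNatLib.Separated.GluePair
import Groth.Agent.IsoNatLib.AutIso.Pair
import Groth.Agent.IsoNatLib.Twist.ProperInertia

/-!
# Extending isomorphisms over valuation rings, read on classes
-/

set_option autoImplicit false
set_option linter.style.haveILetI false
set_option backward.isDefEq.respectTransparency false
set_option backward.isDefEq.respectTransparency.types false

universe u

open CategoryTheory CategoryTheory.Limits AlgebraicGeometry Opposite FibCat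
open Groth.Agent.Stk19 Groth.Agent.Desc19 Groth.Agent.IsoNatLib.Twist
open Groth.Agent.IsoNatLib.AutIso (pb pb_cls pb_natural cls_eq_of_map exists_arrow_of_pb_eq isDominantSch_conj)

namespace Groth.Agent.IsoNatLib.Separated

variable {S : Scheme.{u}} {𝒳 𝒴 : AlgSt.Cat S}

/-- An isomorphism over `L` of the images of two objects, lifted over `W`, lifts. -/
def ExtIsoAt (f : 𝒳 ⥤ᵇ 𝒴) {L W : Over S} (j : W ⟶ L) : Prop :=
  ∀ (x₁ x₂ zW : 𝒳.obj) (e₁ : 𝒳.p.obj x₁ = L) (e₂ : 𝒳.p.obj x₂ = L) (eW : 𝒳.p.obj zW = W)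
    (w₁ : zW ⟶ x₁) (w₂ : zW ⟶ x₂),
    𝒳.p.map w₁ = eqToHom eW ≫ j ≫ eqToHom e₁.symm → 𝒳.p.map w₂ = eqToHom eW ≫ j ≫ eqToHom e₂.symm →
    ∀ (α : f.obj x₁ ⟶ f.obj x₂),
      𝒴.p.map α = eqToHom (((f.w_obj x₁).trans (e₁.trans e₂.symm)).trans (f.w_obj x₂).symm) →
      f.map w₁ ≫ α = f.map w₂ →
      ∃ γ : x₁ ⟶ x₂, 𝒳.p.map γ = eqToHom (e₁.trans e₂.symm) ∧ w₁ ≫ γ = w₂ ∧ f.map γ = α

/-- A class over a doubled scheme with untwisted image is untwisted. -/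
def SepClAt (f : 𝒳 ⥤ᵇ 𝒴) {L W : Over S} (j : W ⟶ L) : Prop :=
  ∀ (hX : IsFibGrpd 𝒳.p) (hY : IsFibGrpd 𝒴.p) (P : Over S) (ι₁ ι₂ : L ⟶ P) (π : P ⟶ L),
    Doubled j P ι₁ ι₂ → ι₁ ≫ π = 𝟙 L → ι₂ ≫ π = 𝟙 L →
    ∀ (c : IsoNat.IsoCl 𝒳 P) (d : IsoNat.IsoCl 𝒴 L), IsoNat.mapCls f P c = pb hY π d → ∃ a, c = pb hX π a

theorem map_base (f : 𝒳 ⥤ᵇ 𝒴) {x y : 𝒳.obj} (φ : x ⟶ y) :
    𝒴.p.map (f.map φ) = eqToHom (f.w_obj x) ≫ 𝒳.p.map φ ≫ eqToHom (f.w_obj y).symm :=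
  based_map f φ

theorem extIso_of_sepCl (hX : Stk.IsStack (AlgSp.J S) 𝒳) (hY : Stk.IsStack (AlgSp.J S) 𝒴)
    (hdY : AlgSt.RepByAlgSpWith AlgSp.IsSeparatedMor (FibCat.diag (toSelf 𝒴))) (f : 𝒳 ⥤ᵇ 𝒴) {L W : Over S}
    (j : W ⟶ L) [IsOpenImmersion j.left] (hdom : IsDominantSch j.left) (hc : SepClAt f j) : ExtIsoAt f j := by
  intro x₁ x₂ zW e₁ e₂ eW w₁ w₂ hw₁ hw₂ α hα hwα
  obtain ⟨P, ι₁, ι₂, hD, hdesc⟩ := exists_doubled j
  obtain ⟨π, hπ₁, hπ₂⟩ := hdesc (𝟙 L) (𝟙 L) rfl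
  let x : Bool → 𝒳.obj := fun s => match s with | false => x₁ | true => x₂
  let ex : ∀ s, 𝒳.p.obj (x s) = L := fun s => match s with | false => e₁ | true => e₂
  let w : ∀ s, zW ⟶ x s := fun s => match s with | false => w₁ | true => w₂
  have hw : ∀ s, 𝒳.p.map (w s) = eqToHom eW ≫ j ≫ eqToHom (ex s).symm := fun s => by
    cases s
    exacts [hw₁, hw₂]
  obtain ⟨xP, eP, μ, hμ, hwμ⟩ := exists_glue_pair hX hD ex eW w hw
  let δ : ∀ s, f.obj (x s) ⟶ f.obj x₂ := fun s => match s with | false => α | true => 𝟙 _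
  have hδ : ∀ s, 𝒴.p.map (δ s) = eqToHom (((f.w_obj (x s)).trans ((ex s).trans e₂.symm)).trans (f.w_obj x₂).symm) :=
    fun s => by
      cases s
      · exact hα
      · exact (𝒴.p.map_id _).trans (eqToHom_refl _ _).symm
  obtain ⟨zπ, a, eπ, ha⟩ := fibGrpd_lift hY.1 (f.obj x₂) (π ≫ eqToHom ((f.w_obj x₂).trans e₂).symm)
  choose τ hτ _ using fun s => fibGrpd_fac hY.1 a (δ s)
    (eqToHom ((f.w_obj (x s)).trans (ex s)) ≫ (if s then ι₂ else ι₁) ≫ eqToHom eπ.symm) (by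
      rw [hδ, ha]
      cases s <;> simp [reassoc_of% hπ₁, reassoc_of% hπ₂])
  have hwτ : f.map (w false) ≫ τ false = f.map (w true) ≫ τ true := by
    refine fibGrpd_ext hY.1 a ?_ ?_
    · rw [𝒴.p.map_comp, 𝒴.p.map_comp, (hτ false).1, (hτ true).1, map_base, map_base, hw false, hw true]
      simp [reassoc_of% hD.sq.w]
    · rw [Category.assoc, Category.assoc, (hτ false).2, (hτ true).2]
      exact hwα.trans (Category.comp_id _).symm
  obtain ⟨χ, hχ, -, -⟩ := exists_of_charts hY hD ((f.w_obj xP).trans eP) eπ ((f.w_obj zW).trans eW)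
    (z := fun s => f.obj (x s)) (fun s => (f.w_obj (x s)).trans (ex s)) (fun s => f.map (μ s)) τ
    (fun s => f.map (w s)) (fun s => by rw [map_base, hμ]; simp) (fun s => (hτ s).1)
    (fun s => by rw [map_base, hw]; simp)
    (by rw [← f.toFunctor.map_comp, ← f.toFunctor.map_comp, hwμ]) hwτ
  have hmap : IsoNat.mapCls f P (IsoNat.cls (⟨xP, eP⟩ : 𝒳.p.Fiber P)) =
      pb hY.1 π (IsoNat.cls (⟨f.obj x₂, (f.w_obj x₂).trans e₂⟩ : 𝒴.p.Fiber L)) := by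
    rw [pb_cls hY.1 (x := ⟨f.obj x₂, (f.w_obj x₂).trans e₂⟩) (x' := ⟨zπ, eπ⟩) a
      (IsHomLift.of_fac' 𝒴.p _ _ eπ ((f.w_obj x₂).trans e₂) (by simp [ha]))]
    exact cls_eq_of_map hY.1 (a := ⟨f.obj xP, (f.w_obj xP).trans eP⟩) (b := ⟨zπ, eπ⟩) χ hχ
  obtain ⟨c₀, hc₀⟩ := hc hX.1 hY.1 P ι₁ ι₂ π hD hπ₁ hπ₂ _ _ hmap
  induction c₀ using Quotient.inductionOn with
  | h xa =>
    obtain ⟨ρ, hρ⟩ := exists_arrow_of_pb_eq hX.1 (x := xa) hc₀.symm
    have hβ : ∀ s, 𝒳.p.map (μ s ≫ ρ) = eqToHom ((ex s).trans xa.2.symm) := fun s => by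
      rw [𝒳.p.map_comp, hμ, hρ]
      cases s <;> simp [reassoc_of% hπ₁, reassoc_of% hπ₂]
    haveI : IsIso (μ true ≫ ρ) := by
      have : IsIso (𝒳.p.map (μ true ≫ ρ)) := by rw [hβ]; infer_instance
      exact fibGrpd_isIso hX.1 _
    let γ : x₁ ⟶ x₂ := (μ false ≫ ρ) ≫ inv (μ true ≫ ρ)
    have hγm : 𝒳.p.map γ = eqToHom (e₁.trans e₂.symm) := by
      show 𝒳.p.map ((μ false ≫ ρ) ≫ inv (μ true ≫ ρ)) = _
      rw [𝒳.p.map_comp, Functor.map_inv, IsIso.comp_inv_eq, hβ, hβ]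
      exact (eqToHom_trans _ _).symm
    have hγw : w₁ ≫ γ = w₂ := by
      show w false ≫ (μ false ≫ ρ) ≫ inv (μ true ≫ ρ) = w true
      rw [← Category.assoc (w false), ← Category.assoc (w false), hwμ, Category.assoc (w true), Category.assoc,
        IsIso.hom_inv_id, Category.comp_id]
    refine ⟨γ, hγm, hγw, ?_⟩
    refine hom_ext_of_dominant hY.1 hdY (f.map γ) α ?_ (f.map w₁) ?_ ?_
    · rw [map_base, hγm, hα]
      simp
    · have e : 𝒴.p.map (f.map w₁) = eqToHom ((f.w_obj zW).trans eW) ≫ j ≫ eqToHom ((f.w_obj x₁).trans e₁).symm := by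
        rw [map_base, hw₁]
        simp
      rw [e]
      exact isDominantSch_conj j hdom ((f.w_obj zW).trans eW) ((f.w_obj x₁).trans e₁)
    · rw [hwα, ← f.toFunctor.map_comp, hγw]

theorem sepCl_of_extIso (hX : Stk.IsStack (AlgSp.J S) 𝒳) (f : 𝒳 ⥤ᵇ 𝒴) {L W : Over S}
    (j : W ⟶ L) (he : ExtIsoAt f j) : SepClAt f j := by
  intro hX' hY P ι₁ ι₂ π hD hπ₁ hπ₂ c d hcd
  induction c using Quotient.inductionOn with
  | h x =>
  induction d using Quotient.inductionOn with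
  | h y =>
    obtain ⟨a, ha⟩ := exists_arrow_of_pb_eq hY (x := y) (x' := ⟨f.obj x.1, (f.w_obj x.1).trans x.2⟩) hcd.symm
    choose z μ ez hμ using fun s : Bool => fibGrpd_lift hX' x.1 ((if s then ι₂ else ι₁) ≫ eqToHom x.2.symm)
    obtain ⟨zW, w₁, eW, hw₁⟩ := fibGrpd_lift hX' (z false) (j ≫ eqToHom (ez false).symm)
    obtain ⟨w₂, ⟨hw₂, hwμ⟩, -⟩ := fibGrpd_fac hX' (μ true) (w₁ ≫ μ false)
      (eqToHom eW ≫ j ≫ eqToHom (ez true).symm) (by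
        rw [𝒳.p.map_comp, hw₁, hμ, hμ]
        simp [reassoc_of% hD.sq.w])
    have hfa : ∀ s, 𝒴.p.map (f.map (μ s) ≫ a) = eqToHom (((f.w_obj (z s)).trans (ez s)).trans y.2.symm) :=
      fun s => by
        rw [𝒴.p.map_comp, map_base, hμ, ha]
        cases s <;> simp [reassoc_of% hπ₁, reassoc_of% hπ₂]
    haveI : IsIso (f.map (μ true) ≫ a) := by
      have : IsIso (𝒴.p.map (f.map (μ true) ≫ a)) := by rw [hfa]; infer_instance
      exact fibGrpd_isIso hY _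
    obtain ⟨γ, hγ, hγw, -⟩ := he (z false) (z true) zW (ez false) (ez true) eW w₁ w₂ hw₁ hw₂
      ((f.map (μ false) ≫ a) ≫ inv (f.map (μ true) ≫ a)) (by
        rw [𝒴.p.map_comp, Functor.map_inv, IsIso.comp_inv_eq, hfa, hfa]
        exact (eqToHom_trans _ _).symm) (by
        rw [← Category.assoc, IsIso.comp_inv_eq, ← Category.assoc, ← Category.assoc, ← f.toFunctor.map_comp,
          ← f.toFunctor.map_comp, hwμ])
    refine ⟨IsoNat.cls (⟨z true, ez true⟩ : 𝒳.p.Fiber L), ?_⟩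
    obtain ⟨zπ, b, eπ, hb⟩ := fibGrpd_lift hX' (z true) (π ≫ eqToHom (ez true).symm)
    rw [pb_cls hX' (x := ⟨z true, ez true⟩) (x' := ⟨zπ, eπ⟩) b (IsHomLift.of_fac' 𝒳.p _ _ eπ (ez true) hb)]
    let δ : ∀ s, z s ⟶ z true := fun s => match s with | false => γ | true => 𝟙 _
    have hδ : ∀ s, 𝒳.p.map (δ s) = eqToHom ((ez s).trans (ez true).symm) := fun s => by
      cases s
      · exact hγ
      · exact (𝒳.p.map_id _).trans (eqToHom_refl _ _).symm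
    choose τ hτ _ using fun s => fibGrpd_fac hX' b (δ s)
      (eqToHom (ez s) ≫ (if s then ι₂ else ι₁) ≫ eqToHom eπ.symm) (by
        rw [hδ, hb]
        cases s <;> simp [reassoc_of% hπ₁, reassoc_of% hπ₂])
    let w : ∀ s, zW ⟶ z s := fun s => match s with | false => w₁ | true => w₂
    have hw : ∀ s, 𝒳.p.map (w s) = eqToHom eW ≫ j ≫ eqToHom (ez s).symm := fun s => by
      cases s
      exacts [hw₁, hw₂]
    have hwτ : w₁ ≫ τ false = w₂ ≫ τ true := by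
      refine fibGrpd_ext hX' b ?_ ?_
      · rw [𝒳.p.map_comp, 𝒳.p.map_comp, (hτ false).1, (hτ true).1, hw₁, hw₂]
        simp [reassoc_of% hD.sq.w]
      · rw [Category.assoc, Category.assoc, (hτ false).2, (hτ true).2]
        exact hγw.trans (Category.comp_id _).symm
    obtain ⟨χ, hχ, -, -⟩ := exists_of_charts hX hD x.2 eπ eW (z := z) ez μ τ w (fun s => by rw [hμ])
      (fun s => (hτ s).1) hw hwμ.symm hwτ
    exact cls_eq_of_map hX' (a := x) (b := ⟨zπ, eπ⟩) χ hχ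

/-- The condition on classes passes along isomorphisms of the presheaves of classes. -/
theorem sepClAt_transfer {𝒳' 𝒴' : AlgSt.Cat S} (hX : IsFibGrpd 𝒳.p) (hY : IsFibGrpd 𝒴.p) {f : 𝒳 ⥤ᵇ 𝒴}
    {f' : 𝒳' ⥤ᵇ 𝒴'} (φ : IsoNat.FIsoSq f f') {L W : Over S} (j : W ⟶ L) (h : SepClAt f j) : SepClAt f' j := by
  intro hX' hY' P ι₁ ι₂ π hD hπ₁ hπ₂ c' d' e
  obtain ⟨a, ha⟩ := h hX hY P ι₁ ι₂ π hD hπ₁ hπ₂ ((φ.src.toEquiv P).symm c') ((φ.tgt.toEquiv L).symm d') (by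
    refine (φ.tgt.toEquiv P).injective ?_
    rw [φ.comm, Equiv.apply_symm_apply, pb_natural hY φ.tgt hY', Equiv.apply_symm_apply]
    exact e)
  refine ⟨φ.src.toEquiv L a, ?_⟩
  rw [← pb_natural hX φ.src hX', ← ha, Equiv.apply_symm_apply]

end Groth.Agent.IsoNatLib.Separated
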