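import Groth.Agent.IsoNatLib.Twist.Doubling

/-!
# Two objects glued along an open part
-/

set_option autoImplicit false
set_option linter.style.haveILetI false
set_option backward.isDefEq.respectTransparency false
set_option backward.isDefEq.respectTransparency.types false

universe u

open CategoryTheory CategoryTheory.Limits AlgebraicGeometry Opposite FibCat
open Groth.Agent.Stk19 Groth.Agent.Desc19 Groth.Agent.IsoNatLib.Twist

namespace Groth.Agent.IsoNatLib.Separated

variable {S : Scheme.{u}} {𝒳 : AlgSt.Cat S}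

/-- Two objects over the charts of a doubled scheme identified over the overlap come from an object. -/
theorem exists_glue_pair (hS : Stk.IsStack (AlgSp.J S) 𝒳) {L W P : Over S} {j : W ⟶ L} {ι₁ ι₂ : L ⟶ P}
    (hD : Doubled j P ι₁ ι₂) {x : Bool → 𝒳.obj} {zW : 𝒳.obj} (ex : ∀ s, 𝒳.p.obj (x s) = L)
    (eW : 𝒳.p.obj zW = W) (w : ∀ s, zW ⟶ x s)
    (hw : ∀ s, 𝒳.p.map (w s) = eqToHom eW ≫ j ≫ eqToHom (ex s).symm) :
    ∃ (xP : 𝒳.obj) (eP : 𝒳.p.obj xP = P) (μ : ∀ s, x s ⟶ xP),
      (∀ s, 𝒳.p.map (μ s) = eqToHom (ex s) ≫ (if s then ι₂ else ι₁) ≫ eqToHom eP.symm) ∧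
        w false ≫ μ false = w true ≫ μ true := by
  have h := hS.1
  let R := Sieve.ofArrows (fun _ : ULift.{u} Bool => L) (fun k => if k.down then ι₂ else ι₁)
  let inj : Bool → (L ⟶ P) := fun s => if s then ι₂ else ι₁
  haveI := hD.mono₁
  haveI := hD.mono₂
  haveI hmono : ∀ s, Mono (inj s) := fun s => by cases s <;> assumption
  haveI : Mono j := MorphismProperty.of_isPullback (P := MorphismProperty.monomorphisms (Over S)) hD.sq.flip
    (inferInstanceAs (Mono ι₂))
  have hji : ∀ s, j ≫ inj s = j ≫ ι₁ := fun s => by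
    cases s
    · rfl
    · exact hD.sq.w.symm
  let Lift : (Stk.sieveCat R).obj → Bool → Prop := fun a s => ∃ l, l ≫ inj s = a.obj.hom
  have hdown : ∀ {a b : (Stk.sieveCat R).obj} (φ : a ⟶ b) s, Lift b s → Lift a s := fun φ s ⟨l, hl⟩ =>
    ⟨φ.hom.left ≫ l, by rw [Category.assoc, hl]; exact Over.w φ.hom⟩
  -- the objects on the elements of the sieve with their arrows to the two objects
  have hobj : ∀ a : (Stk.sieveCat R).obj, ∃ (d : 𝒳.obj) (ed : 𝒳.p.obj d = a.obj.left)
      (r : ∀ s, Lift a s → (d ⟶ x s)),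
      (∀ s hs, 𝒳.p.map (r s hs) ≫ eqToHom (ex s) ≫ inj s = eqToHom ed ≫ a.obj.hom) ∧
      ∀ (h₀ : Lift a false) (h₁ : Lift a true), ∃ κ : d ⟶ zW,
        κ ≫ w false = r false h₀ ∧ κ ≫ w true = r true h₁ := by
    intro a
    by_cases hb : Lift a false ∧ Lift a true
    · obtain ⟨⟨l, hl⟩, ⟨m, hm⟩⟩ := hb
      let k := hD.sq.lift l m (hl.trans hm.symm)
      obtain ⟨d, κ, ed, hκ⟩ := fibGrpd_lift h zW (k ≫ eqToHom eW.symm)
      refine ⟨d, ed, fun s _ => κ ≫ w s, fun s _ => ?_, fun _ _ => ⟨κ, rfl, rfl⟩⟩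
      rw [𝒳.p.map_comp, hκ, hw]
      simp only [Category.assoc, eqToHom_trans_assoc, eqToHom_refl, Category.id_comp]
      rw [hji s, ← hl, ← hD.sq.lift_fst l m (hl.trans hm.symm), Category.assoc]
      rfl
    · obtain ⟨k, l, hl⟩ := (Sieve.mem_ofArrows_iff _ _ a.obj.hom).1 a.property
      obtain ⟨d, ρ, ed, hρ⟩ := fibGrpd_lift h (x k.down) (l ≫ eqToHom (ex k.down).symm)
      have huniq : ∀ s, Lift a s → k.down = s := fun s hs => by
        by_contra hne
        have hk : Lift a k.down := ⟨l, hl.symm⟩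
        cases hkd : k.down <;> cases s <;> rw [hkd] at hk hne <;>
          first | exact hne rfl | exact hb ⟨hk, hs⟩ | exact hb ⟨hs, hk⟩
      refine ⟨d, ed, fun s hs => ρ ≫ eqToHom (congrArg x (huniq s hs)), fun s hs => ?_, fun h₀ h₁ =>
        absurd ⟨h₀, h₁⟩ hb⟩
      obtain rfl := huniq s hs
      simp only [eqToHom_refl, Category.comp_id]
      rw [hρ]
      simp only [Category.assoc, eqToHom_trans_assoc, eqToHom_refl, Category.id_comp]
      exact congrArg (fun t => eqToHom ed ≫ t) hl.symm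
  choose d ed r hr hκ using hobj
  have hside : ∀ a, ∃ s, Lift a s := fun a => by
    obtain ⟨k, g, hg⟩ := (Sieve.mem_ofArrows_iff _ _ a.obj.hom).1 a.property
    exact ⟨k.down, g, hg.symm⟩
  choose side hs using hside
  -- the transition arrows
  have hmap : ∀ {a b : (Stk.sieveCat R).obj} (φ : a ⟶ b) (s : Bool) (ha : Lift a s) (hb : Lift b s),
      (eqToHom (ed a) ≫ φ.hom.left ≫ eqToHom (ed b).symm) ≫ 𝒳.p.map (r b s hb) = 𝒳.p.map (r a s ha) := by
    intro a b φ s ha hb
    haveI := hmono s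
    rw [← cancel_mono (eqToHom (ex s)), ← cancel_mono (inj s)]
    simp only [Category.assoc]
    rw [hr b s hb, hr a s ha, eqToHom_trans_assoc, eqToHom_refl, Category.id_comp]
    exact congrArg (fun t => eqToHom (ed a) ≫ t) (Over.w φ.hom)
  have hg : ∀ {a b : (Stk.sieveCat R).obj} (φ : a ⟶ b), ∃! g : d a ⟶ d b,
      𝒳.p.map g = eqToHom (ed a) ≫ φ.hom.left ≫ eqToHom (ed b).symm ∧
        g ≫ r b (side b) (hs b) = r a (side b) (hdown φ _ (hs b)) := fun {a b} φ =>
    fibGrpd_fac h (r b (side b) (hs b)) (r a (side b) (hdown φ _ (hs b))) _ (hmap φ _ _ _)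
  choose g hg hgu using @hg
  have hall : ∀ {a b : (Stk.sieveCat R).obj} (φ : a ⟶ b) (s : Bool) (hb : Lift b s),
      g φ ≫ r b s hb = r a s (hdown φ _ hb) := by
    intro a b φ s hb
    by_cases hst : s = side b
    · subst hst
      exact (hg φ).2
    have hb₀ : Lift b false := by
      have := hs b
      cases s <;> cases hsb : side b <;> rw [hsb] at this hst <;> first | exact hb | exact this | exact absurd rfl hst
    have hb₁ : Lift b true := by
      have := hs b
      cases s <;> cases hsb : side b <;> rw [hsb] at this hst <;> first | exact hb | exact this | exact absurd rfl hst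
    obtain ⟨κb, k0, k1⟩ := hκ b hb₀ hb₁
    obtain ⟨κa, a0, a1⟩ := hκ a (hdown φ _ hb₀) (hdown φ _ hb₁)
    have kb : ∀ t (ht : Lift b t), κb ≫ w t = r b t ht := fun t ht => by cases t; exacts [k0, k1]
    have ka : ∀ t (ht : Lift a t), κa ≫ w t = r a t ht := fun t ht => by cases t; exacts [a0, a1]
    have e : g φ ≫ κb = κa := by
      refine fibGrpd_ext h (w (side b)) ?_ ?_
      · haveI : Mono (𝒳.p.map (w (side b))) := by rw [hw]; infer_instance
        rw [← cancel_mono (𝒳.p.map (w (side b))), ← 𝒳.p.map_comp, ← 𝒳.p.map_comp, Category.assoc,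
          kb _ (hs b), (hg φ).2, ka]
      · rw [Category.assoc, kb _ (hs b), (hg φ).2, ka]
    rw [← kb s hb, ← ka s, ← e, Category.assoc]
  let D₀ : (Stk.sieveCat R).obj ⥤ 𝒳.obj :=
    { obj := d
      map := fun φ => g φ
      map_id := fun a => (hgu (𝟙 a) _ ⟨by
        rw [𝒳.p.map_id]; change 𝟙 _ = eqToHom _ ≫ 𝟙 a.obj.left ≫ eqToHom _; simp, Category.id_comp _⟩).symm
      map_comp := fun {a b c} φ ψ => (hgu (φ ≫ ψ) _ ⟨by
        rw [𝒳.p.map_comp, (hg φ).1, (hg ψ).1]
        rw [show (φ ≫ ψ).hom.left = φ.hom.left ≫ ψ.hom.left from rfl]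
        simp, by rw [Category.assoc, (hg ψ).2, hall φ]⟩).symm }
  let D : Stk.sieveCat R ⥤ᵇ 𝒳 :=
    { toFunctor := D₀
      w := CategoryTheory.Functor.ext ed (fun a b φ => by
        show 𝒳.p.map (g φ) = _
        rw [(hg φ).1]
        rfl) }
  obtain ⟨xP, eP, θ, hθ, hθn⟩ := ((isStackFor_iff_glue h R).1 (hS.2 R hD.cover)).2 D
  let A : Bool → (Stk.sieveCat R).obj := fun s => ⟨Over.mk (inj s), Sieve.ofArrows_mk _ _ (⟨s⟩ : ULift.{u} Bool)⟩
  have hA : ∀ s, Lift (A s) s := fun s => ⟨𝟙 _, Category.id_comp _⟩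
  have hAm : ∀ s, 𝒳.p.map (r (A s) s (hA s)) = eqToHom ((ed (A s)).trans (ex s).symm) := fun s => by
    haveI := hmono s
    rw [← cancel_mono (eqToHom (ex s)), ← cancel_mono (inj s), Category.assoc, hr, eqToHom_trans]
    rfl
  haveI : ∀ s, IsIso (r (A s) s (hA s)) := fun s => by
    have : IsIso (𝒳.p.map (r (A s) s (hA s))) := by rw [hAm]; infer_instance
    exact fibGrpd_isIso h _
  refine ⟨xP, eP, fun s => inv (r (A s) s (hA s)) ≫ θ (A s), fun s => ?_, ?_⟩
  · rw [𝒳.p.map_comp, Functor.map_inv, IsIso.inv_comp_eq, hAm, hθ]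
    simp [A, inj, D, D₀]
  let aW : (Stk.sieveCat R).obj :=
    ⟨Over.mk (j ≫ ι₁), R.downward_closed (Sieve.ofArrows_mk _ _ (⟨false⟩ : ULift.{u} Bool)) j⟩
  have hW : ∀ s, Lift aW s := fun s => ⟨j, hji s⟩
  obtain ⟨κ, k0, k1⟩ := hκ aW (hW false) (hW true)
  have kW : ∀ s, κ ≫ w s = r aW s (hW s) := fun s => by cases s; exacts [k0, k1]
  haveI : IsIso κ := by
    have hm : 𝒳.p.map κ = eqToHom ((ed aW).trans eW.symm) := by
      haveI := hmono false
      rw [← cancel_mono (eqToHom eW), ← cancel_mono j, ← cancel_mono (inj false)]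
      have := hr aW false (hW false)
      rw [← k0, 𝒳.p.map_comp, hw] at this
      simpa [aW, inj] using this
    have : IsIso (𝒳.p.map κ) := by rw [hm]; infer_instance
    exact fibGrpd_isIso h _
  have key : ∀ s, κ ≫ w s ≫ inv (r (A s) s (hA s)) ≫ θ (A s) = θ aW := fun s => by
    let φ : aW ⟶ A s := ObjectProperty.homMk (Over.homMk j (hji s))
    rw [reassoc_of% kW s, ← hθn _ _ φ, show D.map φ = g φ from rfl, ← Category.assoc]
    congr 1
    rw [IsIso.comp_inv_eq]
    exact (hall φ s (hA s)).symm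
  rw [← cancel_epi κ]
  exact (key false).trans (key true).symm

end Groth.Agent.IsoNatLib.Separated
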