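import Groth.Agent.IsoNatLib.Twist.ProperInertia

/-!
# Sections of a fibre product represented by an algebraic space, vertically
-/

set_option autoImplicit false
set_option linter.style.haveILetI false
set_option backward.isDefEq.respectTransparency false
set_option backward.isDefEq.respectTransparency.types false

universe u

open CategoryTheory CategoryTheory.Limits AlgebraicGeometry Opposite FibCat
open Groth.Agent.Stk19 Groth.Agent.Desc19 Groth.Agent.Stk19b

namespace Groth.Agent.IsoNatLib.Separated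

variable {S : Scheme.{u}} {𝒳 𝒵 : AlgSt.Cat S} {U : Over S} {G : AlgSp.Sp S} {y : overCat U ⥤ᵇ 𝒳}
  {q : 𝒵 ⥤ᵇ 𝒳}

/-- Every object of the fibre product comes from a section, vertically. -/
theorem exists_sec_vert (e : AlgSt.ofSp G ⥤ᵇ fp y q) (he : IsEquivOver e) (z : (fp y q).obj) :
    ∃ γ : (AlgSp.yon S).obj z.obj.fst.left ⟶ G,
      γ ≫ AlgSt.spMapOfOver (BasedFunctor.comp e (fpFst y q)) = (AlgSp.yon S).map z.obj.fst.hom ∧
        ∃ i : e.obj ⟨_, (GrothendieckTopology.uliftYonedaEquiv.{u + 1} (AlgSp.J S)) γ⟩ ≅ z, (fp y q).p.map i.inv = eqToHom (e.w_obj ⟨_, (GrothendieckTopology.uliftYonedaEquiv.{u + 1} (AlgSp.J S)) γ⟩).symm := by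
  obtain ⟨⟨V, s⟩, η, hη⟩ := (EqvData.of_isEquivOver he).surj z
  haveI := hη
  have hV : V = z.obj.fst.left :=
    (e.w_obj ⟨V, s⟩).symm.trans (IsHomLift.domain_eq (fp y q).p (𝟙 ((fp y q).p.obj z)) η.hom)
  subst hV
  let eq0 := congrArg (fun s => e.obj ⟨z.obj.fst.left, s⟩) (Equiv.apply_symm_apply (GrothendieckTopology.uliftYonedaEquiv.{u + 1} (AlgSp.J S)) s)
  refine ⟨(GrothendieckTopology.uliftYonedaEquiv.{u + 1} (AlgSp.J S)).symm s, ?_, eqToIso eq0 ≪≫ η, ?_⟩
  · refine (GrothendieckTopology.uliftYonedaEquiv.{u + 1} (AlgSp.J S)).injective ?_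
    rw [GrothendieckTopology.uliftYonedaEquiv_comp, Equiv.apply_symm_apply, AlgSt.spMapOfOver_app]
    refine ULift.ext _ _ ?_
    show eqToHom _ ≫ (e.obj ⟨_, s⟩).obj.fst.hom = 𝟙 _ ≫ z.obj.fst.hom
    have w := Over.w η.hom.hom.fst
    have m : η.hom.hom.fst.left = eqToHom _ :=
      map_eq_of_vert (fp y q).p (R := (fp y q).p.obj z) η.hom
    rw [← w, m, Category.id_comp]
    simp
  · have hi : (fp y q).p.map (eqToIso eq0 ≪≫ η).hom = eqToHom (e.w_obj ⟨_, (GrothendieckTopology.uliftYonedaEquiv.{u + 1} (AlgSp.J S)) ((GrothendieckTopology.uliftYonedaEquiv.{u + 1} (AlgSp.J S)).symm s)⟩) := by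
      rw [Iso.trans_hom, (fp y q).p.map_comp, map_eq_of_vert (fp y q).p (R := (fp y q).p.obj z) η.hom,
        eqToIso.hom, eqToHom_map]
      exact eqToHom_trans _ _
    refine (cancel_mono ((fp y q).p.map (eqToIso eq0 ≪≫ η).hom)).1 ?_
    rw [← (fp y q).p.map_comp, Iso.inv_hom_id, hi, (fp y q).p.map_id]
    simp only [eqToHom_trans]; exact (eqToHom_refl ((fp y q).p.obj z) _).symm

/-- Sections compatible with an arrow of the objects they give. -/
theorem sec_eq_of_arrow {e : AlgSt.ofSp G ⥤ᵇ fp y q} (he : IsEquivOver e) {T' T : Over S} (t : T' ⟶ T)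
    (α : (AlgSp.yon S).obj T' ⟶ G) (β : (AlgSp.yon S).obj T ⟶ G)
    (M : e.obj ⟨T', (GrothendieckTopology.uliftYonedaEquiv.{u + 1} (AlgSp.J S)) α⟩ ⟶
      e.obj ⟨T, (GrothendieckTopology.uliftYonedaEquiv.{u + 1} (AlgSp.J S)) β⟩)
    (hM : (fp y q).p.map M = eqToHom (e.w_obj _) ≫ t ≫ eqToHom (e.w_obj ⟨T, (GrothendieckTopology.uliftYonedaEquiv.{u + 1} (AlgSp.J S)) β⟩).symm) :
    (AlgSp.yon S).map t ≫ β = α := by
  have := (EqvData.of_isEquivOver he).full
  let m := e.toFunctor.preimage M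
  have hm : m.hom = t := by
    have h := based_map_back e m
    rw [e.toFunctor.map_preimage] at h
    refine h.trans ?_
    rw [hM]
    simp
  refine (GrothendieckTopology.uliftYonedaEquiv.{u + 1} (AlgSp.J S)).injective ?_
  refine Eq.trans ?_ m.map_sec
  rw [hm]
  exact (GrothendieckTopology.uliftYonedaEquiv_naturality (AlgSp.J S) β t).symm

end Groth.Agent.IsoNatLib.Separated
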