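import Groth.Agent.IsoNatLib.Separated.Cls
import Groth.Agent.IsoNatLib.Separated.Sec
import Groth.Agent.Stk19.AlgSt.SmLoc

/-!
# Separatedness and extension of isomorphisms over discrete valuation rings
-/

set_option autoImplicit false
set_option linter.style.haveILetI false
set_option backward.isDefEq.respectTransparency false
set_option backward.isDefEq.respectTransparency.types false

universe u

open CategoryTheory CategoryTheory.Limits AlgebraicGeometry Opposite FibCat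
open Groth.Agent.Stk19 Groth.Agent.Desc19 Groth.Agent.Stk19b Groth.Agent.IsoNatLib.Twist

namespace Groth.Agent.IsoNatLib.Separated

variable {S : Scheme.{u}} {𝒳 𝒴 : AlgSt.Cat S}

/-- Isomorphisms of images, lifted over the fraction field, lift over discrete valuation rings. -/
def ExtIso (f : 𝒳 ⥤ᵇ 𝒴) : Prop :=
  ∀ (A K : Type u) [CommRing A] [IsDomain A] [IsDiscreteValuationRing A] [Field K] [Algebra A K]
    [IsFractionRing A K] (str : Spec (CommRingCat.of A) ⟶ S), ExtIsoAt f (genPt A K str)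

/-- A separated morphism lets isomorphisms extend. -/
theorem extIso_of_separated (h𝒳 : IsFibGrpd 𝒳.p) (h𝒴 : IsFibGrpd 𝒴.p) {f : 𝒳 ⥤ᵇ 𝒴}
    (hpr : AlgSt.IsSeparatedMor f) : ExtIso f := by
  intro A K _ _ _ _ _ _ str x₁ x₂ zW e₁ e₂ eW w₁ w₂ hw₁ hw₂ α hα hwα
  have hfp : IsFibGrpd (fp f f).p := fibGrpd_fp h𝒳 h𝒳 h𝒴 f f
  haveI : IsIso α := by
    have : IsIso (𝒴.p.map α) := by rw [hα]; infer_instance
    exact fibGrpd_isIso h𝒴 _
  let q : (fp f f).obj := fpMk x₁ x₂ (asIso α)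
    (vert_change 𝒴.p _ (vert_of_map_eq 𝒴.p hα) (f.w_obj x₁))
  obtain ⟨y, i, hi⟩ := exists_classifying hfp q (U := Over.mk str) e₁
  have him : (fp f f).p.map i.hom = eqToHom ((y.w_obj (Over.mk (𝟙 (Over.mk str)))).trans e₁.symm) :=
    map_eq_of_vert (fp f f).p (R := Over.mk str) i.hom
  obtain ⟨G, e, he, hG⟩ := hpr (Over.mk str) y
  let Δ := FibCat.diag f
  let a₀ : G ⟶ (⟨_, AlgSp.IsAlgSpace.yon_obj (Over.mk str)⟩ : AlgSp.Space S) :=
    ObjectProperty.homMk (AlgSt.spMapOfOver (BasedFunctor.comp e (fpFst y Δ)))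
  have hVC := ((S10327.result a₀ hG.2.1.2 (AlgSpLib.isQuasiSeparatedMor_of_isSeparatedMor hG.1)).2.1
    ⟨hG.1, hG.2.2⟩).2
  let r : Δ.obj zW ⟶ q := fpHom w₁ w₂ (by
    show f.map w₁ ≫ α = 𝟙 (f.obj zW) ≫ f.map w₂
    rw [Category.id_comp, hwα])
  let o : (overCat (Over.mk str)).obj := Over.mk (genPt A K str)
  obtain ⟨θ₀, ⟨hθ₀, hθw⟩, -⟩ := fibGrpd_fac hfp r (toTop y o ≫ i.hom)
    (eqToHom ((y.w_obj o).trans eW.symm)) (by
      rw [(fp f f).p.map_comp, toTop_map, him, show (fp f f).p.map r = 𝒳.p.map w₁ from rfl, hw₁]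
      simp [o])
  haveI : IsIso θ₀ := by
    have : IsIso ((fp f f).p.map θ₀) := by rw [hθ₀]; infer_instance
    exact fibGrpd_isIso hfp _
  let z₁ : (fp y Δ).obj := fpMk o zW (asIso θ₀)
    (vert_change (fp f f).p _ (vert_of_map_eq (fp f f).p hθ₀) (y.w_obj o))
  obtain ⟨γ₁, hγ₁, i₁, hi₁⟩ := exists_sec_vert e he z₁
  let sq : AlgSp.ValSq a₀.hom :=
    { A := A, K := K, str := str, top := γ₁, bot := 𝟙 _,
      comm := hγ₁.trans (Category.comp_id _).symm }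
  obtain ⟨l, hl1, hl2⟩ := hVC sq
  let z₂ := e.obj ⟨sq.ptA, GrothendieckTopology.uliftYonedaEquiv.{u + 1} (AlgSp.J S) l⟩
  let v : z₁ ⟶ z₂ := i₁.inv ≫ eqToHom (congrArg (fun s : (AlgSp.yon S).obj sq.ptK ⟶ G.obj =>
    e.obj ⟨sq.ptK, GrothendieckTopology.uliftYonedaEquiv.{u + 1} (AlgSp.J S) s⟩) hl1.symm) ≫
    e.map (yonedaElt sq.j l)
  let pt : 𝒳.obj := z₂.obj.snd
  let ι₂ : y.obj z₂.obj.fst ≅ Δ.obj pt := z₂.obj.iso
  let ν : Δ.obj pt ⟶ q := ι₂.inv ≫ toTop y z₂.obj.fst ≫ i.hom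
  let w₃ : zW ⟶ pt := v.hom.snd
  have hfp2 : y.map v.hom.fst ≫ ι₂.hom = θ₀ ≫ Δ.map w₃ := v.hom.w
  have hμw : Δ.map w₃ ≫ ν = r := by
    rw [← cancel_epi θ₀, ← Category.assoc, ← hfp2, hθw]
    simp only [ν, Category.assoc, Iso.hom_inv_id_assoc]
    rw [← Category.assoc, toTop_comp]
    rfl
  have hνiso : IsIso ν := by
    have h1 : IsIso (toTop y z₂.obj.fst) := by
      have hv : z₂.obj.fst.left = sq.ptA := e.w_obj _
      have hf : z₂.obj.fst.hom = eqToHom hv ≫ 𝟙 _ :=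
        sec_fst_hom e l (hl2.trans ((AlgSp.yon S).map_id _).symm) hv
      have : IsIso ((fp f f).p.map (toTop y z₂.obj.fst)) := by rw [toTop_map, hf]; infer_instance
      exact fibGrpd_isIso hfp _
    infer_instance
  let ν₁ : pt ⟶ x₁ := ν.hom.fst
  let ν₂ : pt ⟶ x₂ := ν.hom.snd
  haveI : IsIso ν₁ := ⟨(inv ν).hom.fst, congrArg (fun m => m.hom.fst) (IsIso.hom_inv_id ν),
    congrArg (fun m => m.hom.fst) (IsIso.inv_hom_id ν)⟩
  have hνw : f.map ν₁ ≫ α = 𝟙 (f.obj pt) ≫ f.map ν₂ := ν.hom.w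
  have hw₃₁ : w₃ ≫ ν₁ = w₁ := congrArg (fun m => m.hom.fst) hμw
  have hw₃₂ : w₃ ≫ ν₂ = w₂ := congrArg (fun m => m.hom.snd) hμw
  refine ⟨inv ν₁ ≫ ν₂, ?_, ?_, ?_⟩
  · rw [𝒳.p.map_comp, show 𝒳.p.map ν₂ = _ from fp_map_snd ν, Functor.map_inv]
    simp [ν₁, q, Δ]
  · rw [← hw₃₁, ← hw₃₂, Category.assoc, IsIso.hom_inv_id_assoc]
  · rw [f.toFunctor.map_comp, Functor.map_inv, IsIso.inv_comp_eq, hνw, Category.id_comp]

section Space

variable {f : 𝒳 ⥤ᵇ 𝒴} {U : Over S} {G : AlgSp.Sp S} {y : overCat U ⥤ᵇ fp f f}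
  {e : AlgSt.ofSp G ⥤ᵇ fp y (FibCat.diag f)}

/-- A section over a valuation ring extends when isomorphisms extend. -/
theorem exists_lift (h𝒳 : IsFibGrpd 𝒳.p) (he : IsEquivOver e) (hext : ExtIso f)
    (sq : AlgSp.ValSq (AlgSt.spMapOfOver (BasedFunctor.comp e (fpFst y (FibCat.diag f)))))
    (hA : IsDiscreteValuationRing sq.A) :
    ∃ l : (AlgSp.yon S).obj sq.ptA ⟶ G, (AlgSp.yon S).map sq.j ≫ l = sq.top ∧
      l ≫ AlgSt.spMapOfOver (BasedFunctor.comp e (fpFst y (FibCat.diag f))) = sq.bot := by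
  let Δ := FibCat.diag f
  obtain ⟨m, hm⟩ := (AlgSp.yon S).map_surjective sq.bot
  let zt := e.obj ⟨sq.ptK, (GrothendieckTopology.uliftYonedaEquiv.{u + 1} (AlgSp.J S)) sq.top⟩
  have hv : zt.obj.fst.left = sq.ptK := e.w_obj _
  have hfst : zt.obj.fst.hom = eqToHom hv ≫ sq.j ≫ m := by
    refine sec_fst_hom e sq.top ?_ hv
    rw [Functor.map_comp, hm]
    exact sq.comm
  let o : (overCat U).obj := Over.mk m
  let q := y.obj o
  let φ : zt.obj.fst ⟶ o := Over.homMk (eqToHom hv ≫ sq.j) (by rw [hfst, Category.assoc]; rfl)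
  let pt : 𝒳.obj := zt.obj.snd
  let ι₀ : y.obj zt.obj.fst ≅ Δ.obj pt := zt.obj.iso
  have eK : 𝒳.p.obj pt = sq.ptK := (fp_base_eq zt).trans hv
  have e₁ : 𝒳.p.obj q.obj.fst = sq.ptA := y.w_obj o
  let w : Δ.obj pt ⟶ q := ι₀.inv ≫ y.map φ
  have hι : (fp f f).p.map ι₀.inv = eqToHom ((fp_base_eq zt).trans (y.w_obj zt.obj.fst).symm) :=
    (cancel_mono ((fp f f).p.map ι₀.hom)).1 (by
      rw [← (fp f f).p.map_comp, ι₀.inv_hom_id, (fp f f).p.map_id]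
      erw [fp_iso_map zt]
      simp [Δ])
  have hw : (fp f f).p.map w = eqToHom eK ≫ genPt sq.A sq.K sq.str ≫ eqToHom e₁.symm := by
    show (fp f f).p.map (ι₀.inv ≫ y.map φ) = _
    rw [(fp f f).p.map_comp, hι, based_map y φ]
    simp [φ, o, genPt]
  let w₁ : pt ⟶ q.obj.fst := w.hom.fst
  let w₂ : pt ⟶ q.obj.snd := w.hom.snd
  have hwc : f.map w₁ ≫ q.obj.iso.hom = 𝟙 (f.obj pt) ≫ f.map w₂ := w.hom.w
  obtain ⟨γ, hγ, hwγ, hfγ⟩ := hext sq.A sq.K sq.str q.obj.fst q.obj.snd pt e₁ ((fp_base_eq q).trans e₁) eK w₁ w₂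
    hw (by
      rw [show 𝒳.p.map w₂ = _ from fp_map_snd w, show 𝒳.p.map w.hom.fst = _ from hw]
      simp)
    q.obj.iso.hom ((fp_iso_map q).trans (by simp)) (hwc.trans (Category.id_comp _))
  haveI : IsIso γ := by
    have : IsIso (𝒳.p.map γ) := by rw [hγ]; infer_instance
    exact fibGrpd_isIso h𝒳 _
  let θ : q ≅ Δ.obj q.obj.snd := fpIsoMk (asIso γ) (Iso.refl _) (by
    show f.map γ ≫ 𝟙 _ = q.obj.iso.hom ≫ f.map (𝟙 _)
    simp [hfγ])
  let z₂ : (fp y Δ).obj :=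
    fpMk o q.obj.snd θ (fpIsoMk_vert _ _ _ (vert_change 𝒳.p _ (vert_of_map_eq 𝒳.p hγ) e₁))
  obtain ⟨γ', hγ', i₂, hi₂⟩ := exists_sec_vert e he z₂
  refine ⟨γ', ?_, hγ'.trans hm⟩
  have hS : w ≫ θ.hom = Δ.map w₂ := fp_hom_ext hwγ (Category.comp_id _)
  let N : zt ⟶ z₂ := fpHom φ w₂ (by
    show y.map φ ≫ θ.hom = ι₀.hom ≫ Δ.map w₂
    rw [← hS]
    simp [w])
  refine sec_eq_of_arrow he sq.j sq.top γ' (N ≫ i₂.inv) ?_
  rw [(fp y Δ).p.map_comp, hi₂]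
  show (N.hom.fst).left ≫ _ = _
  simp [N, φ, z₂, o]

end Space

/-- Extension of isomorphisms gives separatedness. -/
theorem separated_of_extIso (h𝒳 : AlgSt.IsAlgStack Scheme.fppfPrecoverage 𝒳)
    (h𝒴 : AlgSt.IsAlgStack Scheme.fppfPrecoverage 𝒴)
    (hd𝒳 : AlgSt.RepByAlgSpWith (AlgSp.IsSeparatedMor ⊓ AlgSp.IsQuasiCompactMor) (FibCat.diag (toSelf 𝒳)))
    (hd𝒴 : AlgSt.RepByAlgSpWith (AlgSp.IsSeparatedMor ⊓ AlgSp.IsQuasiCompactMor) (FibCat.diag (toSelf 𝒴)))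
    (f : 𝒳 ⥤ᵇ 𝒴) (hft : AlgSt.LocQ (AlgSp.LocP @LocallyOfFiniteType) f)
    (hN : AlgSt.SmoothLocally (fun X => IsLocallyNoetherian X) 𝒴) (hext : ExtIso f) :
    AlgSt.IsSeparatedMor f := by
  have hl := diag_lft h𝒳 h𝒴 f
  have hsq : AlgSt.RepByAlgSpWith (AlgSp.IsSeparatedMor ⊓ AlgSp.IsQuasiCompactMor) (FibCat.diag f) :=
    diag_of_comp h𝒳 h𝒴 fibGrpd_selfOver (pbStable_diagWith.inf pbStable_qcMor) (schemeTested_diagWith.inf schemeTested_qcMor)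
      (compStable_diagWith.inf compStable_qcMor) f (toSelf 𝒴) hd𝒴
      (fun V Z a ha => ⟨diagonal_isProperMor V.property ha.1 |>.1, (diagonal_isProperMor V.property ha.1).2.1.2⟩)
      ((diag_transport (f' := BasedFunctor.comp f (toSelf 𝒴)) (f := toSelf 𝒳) (a := BasedFunctor.id _)
        (b := BasedFunctor.id _) (isEquivOver_id _) (isEquivOver_id _) (selfIso _ _)).2 hd𝒳)
  have h2 := isAlgStack_fp h𝒴.isStack h𝒴.diag h𝒳 h𝒳 f f
  obtain ⟨U, u, hu, hus⟩ := h2.atlas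
  haveI : IsLocallyNoetherian U.left :=
    smoothLocally_noeth_of_lft h2 h𝒳 (locQ_fpFst smST_lft (fun G W V k g hk => by
      have := AlgSp.locP_yon_map hk
      exact (locP_yon_iff AlgSpLib.etLocal_lft _).2
        (MorphismProperty.of_isPullback (P := @LocallyOfFiniteType) ((IsPullback.of_hasPullback k g).map (Over.forget S)) this)) h𝒳 h𝒴 h𝒳 f hft)
      (smoothLocally_noeth_of_lft h𝒳 h𝒴 hft hN) U u hu
  have hsm := fun (P : MorphismProperty Scheme.{u}) (hP : ∀ {A B : Scheme.{u}} (g : A ⟶ B), Smooth g → P g) =>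
    repByAlgSpWith_mono (Q := AlgSp.LocP P) (fun _ V a hX ha => AlgSpLib.locP_mono (fun _ _ g hg => hP g hg) ha) hu
  refine with_of_cover (respSrc_of_baseChange pbStable_proper) schDescent_proper (repByAlgSp1_of_with hl)
    (hsm @Flat fun g _ => inferInstance) (hsm @LocallyOfFinitePresentation fun g _ => inferInstance) hus ?_
  obtain ⟨G, e, he, hG₁, hG₂⟩ := repByAlgSpWith_and (respSrc_locP AlgSpLib.etLocal_lft) hsq hl U u
  refine fpFst_with_of_witness pbStable_proper G e he ?_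
  refine AlgSpLib.isProperMor_of_refined_dvr G.property (AlgSp.IsAlgSpace.yon_obj U) G.property hG₁.1
    ⟨hG₂, hG₁.2⟩ ⟨U, 𝟙 _, AlgSp.repWith_id @Etale U, AlgSp.repWith_id @Surjective U, inferInstance⟩ (𝟙 G.obj)
    (isFiniteTypeMor_id G.property) ?_ fun sq hA => ?_
  · intro x
    refine subset_closure ⟨x, ?_⟩
    rw [AlgSp.Points.map_id]
  · obtain ⟨l, h1, h2⟩ := exists_lift h𝒳.isStack.1 he hext
      { A := sq.A, K := sq.K, str := sq.str, top := sq.top, bot := sq.bot,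
        comm := by simpa using sq.comm } hA
    exact ⟨l, h1.trans (Category.comp_id _).symm, h2⟩

end Groth.Agent.IsoNatLib.Separated
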